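import Groth.Agent.Comodule.Unipotent
import Mathlib

/-! Unipotence of the fibres of a flat Hopf algebra: it spreads from a fibre where the ring embeds. -/

set_option autoImplicit false
universe u

open TensorProduct WithConv

noncomputable section

namespace Groth.Agent.UnipSpec

open Comodule

variable {A H : Type u} [CommRing A] [CommRing H] [HopfAlgebra A H]

theorem comul_one_tmul' (L : Type u) [CommRing L] [Algebra A L] (a : H) :
    Coalgebra.comul (R := L) ((1 : L) ⊗ₜ[A] a) =
      TensorProduct.mapOfCompatibleSMul L A A (L ⊗[A] H) (L ⊗[A] H)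
        (TensorProduct.map (TensorProduct.mk A L H 1) (TensorProduct.mk A L H 1) (Coalgebra.comul (R := A) a)) := by
  rw [TensorProduct.comul_tmul, Bialgebra.comul_one, Algebra.TensorProduct.one_def]
  induction Coalgebra.comul (R := A) a with
  | zero => simp
  | add x y hx hy => simp only [TensorProduct.tmul_add, map_add, hx, hy]
  | tmul p q => simp

variable {K : Type u} [Field K] [Algebra A K] {k : Type u} [Field k] [Algebra A k] [Module.Flat A H]

theorem mem_fil_fibre (hinj : Function.Injective (algebraMap A K)) :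
    ∀ (n : ℕ) (h : H), (1 : K) ⊗ₜ[A] h ∈ fil K (K ⊗[A] H) (K ⊗[A] H) n →
      (1 : k) ⊗ₜ[A] h ∈ fil k (k ⊗[A] H) (k ⊗[A] H) n := by
  intro n
  induction n with
  | zero =>
    intro h hh
    rw [fil_zero, Submodule.mem_bot] at hh ⊢
    have h0 : h = 0 := Algebra.TensorProduct.includeRight_injective (R := A) (A := K) (B := H) hinj
      (by simpa using hh)
    rw [h0, TensorProduct.tmul_zero]
  | succ n ih =>
    intro h hh
    let N := fil K (K ⊗[A] H) (K ⊗[A] H) n
    let ψ : H →ₗ[A] (K ⊗[A] H) ⧸ N := N.mkQ.restrictScalars A ∘ₗ TensorProduct.mk A K H 1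
    let D : H ⊗[A] H := Coalgebra.comul (R := A) h - h ⊗ₜ[A] (1 : H)
    let DK : (K ⊗[A] H) ⊗[K] (K ⊗[A] H) :=
      Coalgebra.comul (R := K) ((1 : K) ⊗ₜ[A] h) - ((1 : K) ⊗ₜ[A] h) ⊗ₜ[K] (1 : K ⊗[A] H)
    have hDK : N.mkQ.rTensor (K ⊗[A] H) DK = 0 := by
      refine ext_rcon fun g => ?_
      rw [map_zero]
      have e : ∀ y : (K ⊗[A] H) ⊗[K] (K ⊗[A] H), rcon g (N.mkQ.rTensor (K ⊗[A] H) y) = N.mkQ (rcon g y) := by
        intro y
        induction y with
        | zero => simp
        | add p q hp hq => simp only [map_add, hp, hq]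
        | tmul p q => simp [rcon]
      rw [e, Submodule.mkQ_apply, Submodule.Quotient.mk_eq_zero]
      have h1 := mem_fil_succ.mp hh (toConv g - g 1 • (1 : WithConv (K ⊗[A] H →ₗ[K] K)))
        (by simp [LinearMap.convOne_def, Bialgebra.counit_one])
      rw [sub_smul, smul_assoc, one_smul, smul_def, dact, LinearMap.comp_apply, coact_regular] at h1
      simpa [DK, rcon] using h1
    have hψ : ψ.rTensor H D = 0 := by
      have e : ∀ y : H ⊗[A] H, ψ.rTensor H y =
          TensorProduct.AlgebraTensorModule.cancelBaseChange A K K ((K ⊗[A] H) ⧸ N) H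
            (N.mkQ.rTensor (K ⊗[A] H) (TensorProduct.mapOfCompatibleSMul K A A _ _
              (TensorProduct.map (TensorProduct.mk A K H 1) (TensorProduct.mk A K H 1) y))) := by
        intro y
        induction y with
        | zero => simp
        | add p q hp hq => simp only [map_add, hp, hq]
        | tmul p q => simp [ψ]
      rw [e, map_sub, map_sub, ← comul_one_tmul', TensorProduct.map_tmul]
      have h0 := congrArg (TensorProduct.AlgebraTensorModule.cancelBaseChange A K K ((K ⊗[A] H) ⧸ N) H) hDK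
      rw [map_zero] at h0
      simpa [DK, Algebra.TensorProduct.one_def] using h0
    obtain ⟨z, hz⟩ := (Module.Flat.rTensor_exact (M := H) (LinearMap.exact_subtype_ker_map ψ) D).mp hψ
    refine mem_fil_succ.mpr fun f hf => ?_
    have hD : Coalgebra.comul (R := A) h = D + h ⊗ₜ[A] (1 : H) := by simp [D]
    let Φ : H ⊗[A] H →ₗ[A] (k ⊗[A] H) :=
      (rcon (V := k ⊗[A] H) f.ofConv).restrictScalars A ∘ₗ TensorProduct.mapOfCompatibleSMul k A A _ _ ∘ₗ
        TensorProduct.map (TensorProduct.mk A k H 1) (TensorProduct.mk A k H 1)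
    have e : f • ((1 : k) ⊗ₜ[A] h) = Φ (Coalgebra.comul (R := A) h) := by
      rw [smul_def, dact, LinearMap.comp_apply, coact_regular, comul_one_tmul']
      rfl
    have e1 : Φ (h ⊗ₜ[A] (1 : H)) = 0 := by
      simp [Φ, rcon, ← Algebra.TensorProduct.one_def, hf]
    rw [e, hD, map_add, e1, add_zero, ← hz]
    clear hz
    induction z with
    | zero => simp only [map_zero]; exact Submodule.zero_mem _
    | add p q hp hq => simp only [map_add]; exact Submodule.add_mem _ hp hq
    | tmul p q =>
      have hp : (1 : K) ⊗ₜ[A] (p : H) ∈ N := (Submodule.Quotient.mk_eq_zero N).mp p.2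
      simpa [Φ, rcon] using Submodule.smul_mem _ (f.ofConv ((1 : k) ⊗ₜ[A] q)) (ih p hp)

/-- Unipotence passes to every fibre at which the base surjects. -/
theorem unipotent_fibre (hinj : Function.Injective (algebraMap A K)) (hsurj : Function.Surjective (algebraMap A k))
    (hK : HopfRep.IsUnipotent K (K ⊗[A] H)) : HopfRep.IsUnipotent k (k ⊗[A] H) := by
  rw [isUnipotent_iff_fil] at hK ⊢
  intro y
  obtain ⟨h, rfl⟩ := TensorProduct.mk_surjective A H k hsurj y
  obtain ⟨n, hn⟩ := hK ((1 : K) ⊗ₜ[A] h)
  exact ⟨n, mem_fil_fibre hinj n h hn⟩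

end Groth.Agent.UnipSpec
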