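import Groth.Agent.UnipSpec.Basic
import Groth.Agent.Comodule.Trig
import Mathlib

/-! Trigonalizability passes to the special fibre over a valuation ring. -/

set_option autoImplicit false
universe u

open TensorProduct WithConv

noncomputable section

namespace Groth.Agent.UnipSpec

open Comodule

variable {A H : Type u} [CommRing A] [CommRing H] [HopfAlgebra A H]
variable {K : Type u} [Field K] [Algebra A K] {k : Type u} [Field k] [Algebra A k] [Module.Flat A H]

/-- The trace of a subspace of the fibre at `K` on the fibre at `k`. -/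
def spec (k : Type u) [Field k] [Algebra A k] (N : Submodule K (K ⊗[A] H)) : Submodule k (k ⊗[A] H) :=
  Submodule.span k ((fun h => (1 : k) ⊗ₜ[A] h) '' {h | (1 : K) ⊗ₜ[A] h ∈ N})

theorem isSubcomod_spec {N : Submodule K (K ⊗[A] H)} (hN : HopfRep.IsSubcomod (k := K) (A := K ⊗[A] H) N) :
    HopfRep.IsSubcomod (k := k) (A := k ⊗[A] H) (spec k N) := by
  let ψ : H →ₗ[A] (K ⊗[A] H) ⧸ N := N.mkQ.restrictScalars A ∘ₗ TensorProduct.mk A K H 1
  refine isSubcomod_iff.mpr fun f v hv => ?_
  induction hv using Submodule.span_induction with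
  | zero => rw [smul_zero]; exact Submodule.zero_mem _
  | add p q _ _ hp hq => rw [smul_add]; exact Submodule.add_mem _ hp hq
  | smul c p _ hp => rw [smul_comm]; exact Submodule.smul_mem _ c hp
  | mem v hv =>
    obtain ⟨h, hh, rfl⟩ := hv
    have hDK : N.mkQ.rTensor (K ⊗[A] H) (Coalgebra.comul (R := K) ((1 : K) ⊗ₜ[A] h)) = 0 := by
      refine ext_rcon fun g => ?_
      rw [map_zero]
      have e : ∀ y : (K ⊗[A] H) ⊗[K] (K ⊗[A] H), rcon g (N.mkQ.rTensor (K ⊗[A] H) y) = N.mkQ (rcon g y) := by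
        intro y
        induction y with
        | zero => simp
        | add p q hp hq => simp only [map_add, hp, hq]
        | tmul p q => simp [rcon]
      rw [e, Submodule.mkQ_apply, Submodule.Quotient.mk_eq_zero]
      have h1 := isSubcomod_iff.mp hN (toConv g) _ hh
      rwa [smul_def, dact, LinearMap.comp_apply, coact_regular] at h1
    have hψ : ψ.rTensor H (Coalgebra.comul (R := A) h) = 0 := by
      have e : ∀ y : H ⊗[A] H, ψ.rTensor H y =
          TensorProduct.AlgebraTensorModule.cancelBaseChange A K K ((K ⊗[A] H) ⧸ N) H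
            (N.mkQ.rTensor (K ⊗[A] H) (TensorProduct.mapOfCompatibleSMul K A A _ _
              (TensorProduct.map (TensorProduct.mk A K H 1) (TensorProduct.mk A K H 1) y))) := by
        intro y
        induction y with
        | zero => simp
        | add p q hp hq => simp only [map_add, hp, hq]
        | tmul p q => simp [ψ]
      rw [e, ← comul_one_tmul', hDK, map_zero]
    obtain ⟨z, hz⟩ := (Module.Flat.rTensor_exact (M := H) (LinearMap.exact_subtype_ker_map ψ) _).mp hψ
    let Φ : H ⊗[A] H →ₗ[A] (k ⊗[A] H) :=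
      (rcon (V := k ⊗[A] H) f.ofConv).restrictScalars A ∘ₗ TensorProduct.mapOfCompatibleSMul k A A _ _ ∘ₗ
        TensorProduct.map (TensorProduct.mk A k H 1) (TensorProduct.mk A k H 1)
    have e : f • ((1 : k) ⊗ₜ[A] h) = Φ (Coalgebra.comul (R := A) h) := by
      rw [smul_def, dact, LinearMap.comp_apply, coact_regular, comul_one_tmul']
      rfl
    rw [e, ← hz]
    clear hz
    induction z with
    | zero => simp only [map_zero]; exact Submodule.zero_mem _
    | add p q hp hq => simp only [map_add]; exact Submodule.add_mem _ hp hq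
    | tmul p q =>
      have hp : (1 : K) ⊗ₜ[A] (p : H) ∈ N := (Submodule.Quotient.mk_eq_zero N).mp p.2
      simpa [Φ, rcon, spec] using Submodule.smul_mem _ (f.ofConv ((1 : k) ⊗ₜ[A] q))
        (Submodule.subset_span ⟨(p : H), hp, rfl⟩ : (1 : k) ⊗ₜ[A] (p : H) ∈ spec k N)

theorem exists_le_spec_sup [IsDomain A] [ValuationRing A] [IsFractionRing A K] {N N' : Submodule K (K ⊗[A] H)}
    (w : K ⊗[A] H) (hw : N' ≤ N ⊔ Submodule.span K {w}) :
    ∃ x, spec k N' ≤ spec k N ⊔ Submodule.span k {x} := by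
  by_cases hall : ∀ h : H, (1 : K) ⊗ₜ[A] h ∈ N' → (1 : k) ⊗ₜ[A] h ∈ spec k N
  · refine ⟨0, le_trans (Submodule.span_le.mpr ?_) le_sup_left⟩
    rintro _ ⟨h, hh, rfl⟩
    exact hall h hh
  push Not at hall
  obtain ⟨x, hxN', hx⟩ := hall
  refine ⟨(1 : k) ⊗ₜ[A] x, Submodule.span_le.mpr ?_⟩
  rintro _ ⟨y, hy, rfl⟩
  obtain ⟨m, hm, v, hv, hxe⟩ := Submodule.mem_sup.mp (hw hxN')
  obtain ⟨α, rfl⟩ := Submodule.mem_span_singleton.mp hv
  obtain ⟨m', hm', v', hv', hye⟩ := Submodule.mem_sup.mp (hw hy)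
  obtain ⟨β, rfl⟩ := Submodule.mem_span_singleton.mp hv'
  have hα : α ≠ 0 := by
    intro h0
    rw [h0, zero_smul, add_zero] at hxe
    exact hx (Submodule.subset_span ⟨x, (hxe ▸ hm : (1 : K) ⊗ₜ[A] x ∈ N), rfl⟩)
  have key : ∀ (s t : H) (a : A) (ms mt : K ⊗[A] H) (γ δ : K), ms ∈ N → mt ∈ N → ms + γ • w = (1 : K) ⊗ₜ[A] s →
      mt + δ • w = (1 : K) ⊗ₜ[A] t → δ = algebraMap A K a * γ → (1 : k) ⊗ₜ[A] (t - a • s) ∈ spec k N := by
    intro s t a ms mt γ δ hms hmt hs ht hδ
    refine Submodule.subset_span ⟨t - a • s, ?_, rfl⟩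
    show (1 : K) ⊗ₜ[A] (t - a • s) ∈ N
    rw [TensorProduct.tmul_sub, TensorProduct.tmul_smul, ← algebraMap_smul K a ((1 : K) ⊗ₜ[A] s), ← hs, ← ht, hδ,
      smul_add, smul_smul, add_sub_add_right_eq_sub]
    exact Submodule.sub_mem _ hmt (Submodule.smul_mem _ _ hms)
  have fin : ∀ a : A, (1 : k) ⊗ₜ[A] (y - a • x) ∈ spec k N →
      (1 : k) ⊗ₜ[A] y ∈ spec k N ⊔ Submodule.span k {(1 : k) ⊗ₜ[A] x} := by
    intro a ha
    have h := Submodule.add_mem_sup ha (Submodule.smul_mem _ (algebraMap A k a) (Submodule.mem_span_singleton_self ((1 : k) ⊗ₜ[A] x)))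
    rwa [algebraMap_smul, TensorProduct.tmul_sub, TensorProduct.tmul_smul, sub_add_cancel] at h
  rcases ValuationRing.isInteger_or_isInteger A (β / α) with ⟨a, ha⟩ | ⟨a, ha⟩
  · exact fin a (key x y a m m' α β hm hm' hxe hye (by rw [ha, div_mul_cancel₀ _ hα]))
  · by_cases hβ : β = 0
    · refine fin 0 (key x y 0 m m' α β hm hm' hxe hye (by rw [hβ, map_zero, zero_mul]))
    have h := key y x a m' m β α hm' hm hye hxe (by rw [ha, inv_div, div_mul_cancel₀ _ hβ])
    have hmem : algebraMap A k a • ((1 : k) ⊗ₜ[A] y) ∈ spec k N ⊔ Submodule.span k {(1 : k) ⊗ₜ[A] x} := by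
      have h' := Submodule.sub_mem _ (Submodule.mem_sup_right (S := spec k N) (Submodule.mem_span_singleton_self ((1 : k) ⊗ₜ[A] x)))
        (Submodule.mem_sup_left (T := Submodule.span k {(1 : k) ⊗ₜ[A] x}) h)
      rwa [TensorProduct.tmul_sub, TensorProduct.tmul_smul, sub_sub_cancel, ← algebraMap_smul k a] at h'
    have hunit : algebraMap A k a ≠ 0 := by
      intro h0
      apply hx
      rw [TensorProduct.tmul_sub, TensorProduct.tmul_smul, ← algebraMap_smul k a ((1 : k) ⊗ₜ[A] y), h0, zero_smul,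
        sub_zero] at h
      exact h
    exact (Submodule.smul_mem_iff _ hunit).mp hmem

theorem trig_fibre [IsDomain A] [ValuationRing A] [IsFractionRing A K] (hsurj : Function.Surjective (algebraMap A k))
    (hK : HopfRep.IsTrigonalizable K (K ⊗[A] H)) : HopfRep.IsTrigonalizable k (k ⊗[A] H) := by
  refine trig_of_hasChain fun y => ?_
  obtain ⟨h, rfl⟩ := TensorProduct.mk_surjective A H k hsurj y
  obtain ⟨G, h0, hsub, hstep, m, hm⟩ := hasChain_of_trig hK ((1 : K) ⊗ₜ[A] h)
  refine ⟨fun i => spec k (G i), ?_, fun i => isSubcomod_spec (hsub i), fun i => ?_, m,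
    Submodule.subset_span ⟨h, hm, rfl⟩⟩
  · refine (Submodule.eq_bot_iff _).mpr fun v hv => ?_
    refine (Submodule.span_le (p := ⊥)).mpr ?_ hv
    rintro _ ⟨x, hx, rfl⟩
    rw [Set.mem_setOf_eq, h0, Submodule.mem_bot] at hx
    have : x = 0 := Algebra.TensorProduct.includeRight_injective (R := A) (A := K) (B := H)
      (IsFractionRing.injective A K) (by simpa using hx)
    simp [this]
  · obtain ⟨w, hw⟩ := hstep i
    exact exists_le_spec_sup w hw

end Groth.Agent.UnipSpec
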